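import Cfsg.Agent.Lib.CosetEnum.HeK.Data

/-! Generated certificate. -/

set_option autoImplicit false
set_option maxRecDepth 20000

namespace Cfsg.Lib.CosetEnum.HeK

theorem closed_9 : closedOK tabF tabZ tabP 176388 49980 7 [0, 1, 2, 3, 4, 5, 6] 4000 36000 = true := by decide +kernel

theorem closed_10 : closedOK tabF tabZ tabP 176388 49980 7 [0, 1, 2, 3, 4, 5, 6] 4000 40000 = true := by decide +kernel

theorem closed_11 : closedOK tabF tabZ tabP 176388 49980 7 [0, 1, 2, 3, 4, 5, 6] 4000 44000 = true := by decide +kernel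

end Cfsg.Lib.CosetEnum.HeK
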