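import Cfsg.Agent.Lib.CosetEnum.HeK.Data

/-! Generated certificate. -/

set_option autoImplicit false
set_option maxRecDepth 20000

namespace Cfsg.Lib.CosetEnum.HeK

theorem steps_14 : stepsOK relWords subWords tabF tabC 49979 1500 21000 = true := by decide +kernel

theorem steps_15 : stepsOK relWords subWords tabF tabC 49979 1500 22500 = true := by decide +kernel

end Cfsg.Lib.CosetEnum.HeK
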