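import Cfsg.Agent.Lib.CosetEnum.HeK.DefsPart0
import Cfsg.Agent.Lib.CosetEnum.HeK.DefsPart1
import Cfsg.Agent.Lib.CosetEnum.HeK.DefsPart2
import Cfsg.Agent.Lib.CosetEnum.HeK.DefsPart3
import Cfsg.Agent.Lib.CosetEnum.HeK.StepsPart0
import Cfsg.Agent.Lib.CosetEnum.HeK.StepsPart1
import Cfsg.Agent.Lib.CosetEnum.HeK.StepsPart2
import Cfsg.Agent.Lib.CosetEnum.HeK.StepsPart3
import Cfsg.Agent.Lib.CosetEnum.HeK.StepsPart4
import Cfsg.Agent.Lib.CosetEnum.HeK.StepsPart5
import Cfsg.Agent.Lib.CosetEnum.HeK.StepsPart6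
import Cfsg.Agent.Lib.CosetEnum.HeK.StepsPart7
import Cfsg.Agent.Lib.CosetEnum.HeK.StepsPart8
import Cfsg.Agent.Lib.CosetEnum.HeK.StepsPart9
import Cfsg.Agent.Lib.CosetEnum.HeK.StepsPart10
import Cfsg.Agent.Lib.CosetEnum.HeK.StepsPart11
import Cfsg.Agent.Lib.CosetEnum.HeK.StepsPart12
import Cfsg.Agent.Lib.CosetEnum.HeK.StepsPart13
import Cfsg.Agent.Lib.CosetEnum.HeK.StepsPart14
import Cfsg.Agent.Lib.CosetEnum.HeK.StepsPart15
import Cfsg.Agent.Lib.CosetEnum.HeK.StepsPart16
import Cfsg.Agent.Lib.CosetEnum.HeK.StepsPart17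
import Cfsg.Agent.Lib.CosetEnum.HeK.StepsPart18
import Cfsg.Agent.Lib.CosetEnum.HeK.StepsPart19
import Cfsg.Agent.Lib.CosetEnum.HeK.StepsPart20
import Cfsg.Agent.Lib.CosetEnum.HeK.StepsPart21
import Cfsg.Agent.Lib.CosetEnum.HeK.StepsPart22
import Cfsg.Agent.Lib.CosetEnum.HeK.StepsPart23
import Cfsg.Agent.Lib.CosetEnum.HeK.StepsPart24
import Cfsg.Agent.Lib.CosetEnum.HeK.StepsPart25
import Cfsg.Agent.Lib.CosetEnum.HeK.StepsPart26
import Cfsg.Agent.Lib.CosetEnum.HeK.StepsPart27
import Cfsg.Agent.Lib.CosetEnum.HeK.StepsPart28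
import Cfsg.Agent.Lib.CosetEnum.HeK.StepsPart29
import Cfsg.Agent.Lib.CosetEnum.HeK.StepsPart30
import Cfsg.Agent.Lib.CosetEnum.HeK.StepsPart31
import Cfsg.Agent.Lib.CosetEnum.HeK.StepsPart32
import Cfsg.Agent.Lib.CosetEnum.HeK.StepsPart33
import Cfsg.Agent.Lib.CosetEnum.HeK.StepsPart34
import Cfsg.Agent.Lib.CosetEnum.HeK.StepsPart35
import Cfsg.Agent.Lib.CosetEnum.HeK.StepsPart36
import Cfsg.Agent.Lib.CosetEnum.HeK.StepsPart37
import Cfsg.Agent.Lib.CosetEnum.HeK.StepsPart38
import Cfsg.Agent.Lib.CosetEnum.HeK.StepsPart39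
import Cfsg.Agent.Lib.CosetEnum.HeK.StepsPart40
import Cfsg.Agent.Lib.CosetEnum.HeK.StepsPart41
import Cfsg.Agent.Lib.CosetEnum.HeK.StepsPart42
import Cfsg.Agent.Lib.CosetEnum.HeK.ClosedPart0
import Cfsg.Agent.Lib.CosetEnum.HeK.ClosedPart1
import Cfsg.Agent.Lib.CosetEnum.HeK.ClosedPart2
import Cfsg.Agent.Lib.CosetEnum.HeK.ClosedPart3
import Cfsg.Agent.Lib.CosetEnum.HeK.ClosedPart4

/-! Generated certificate. -/

set_option autoImplicit false
set_option maxRecDepth 20000

namespace Cfsg.Lib.CosetEnum.HeK

theorem step_valid {R0 : List (List Nat)} (h : shiftsOK R0 relWords = true) : step.Valid R0 where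
  pos := by decide +kernel
  shifts := h
  defs := (defsOK_append (a := 24000) (b := 25979) (defsOK_append (a := 12000) (b := 12000) (defsOK_append (a := 4000) (b := 8000) defs_0 (defsOK_append (a := 4000) (b := 4000) defs_1 defs_2)) (defsOK_append (a := 4000) (b := 8000) defs_3 (defsOK_append (a := 4000) (b := 4000) defs_4 defs_5))) (defsOK_append (a := 12000) (b := 13979) (defsOK_append (a := 4000) (b := 8000) defs_6 (defsOK_append (a := 4000) (b := 4000) defs_7 defs_8)) (defsOK_append (a := 8000) (b := 5979) (defsOK_append (a := 4000) (b := 4000) defs_9 defs_10) (defsOK_append (a := 4000) (b := 1979) defs_11 defs_12))))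
  steps := (stepsOK_append (m := 63000) (n := 63409) (stepsOK_append (m := 31500) (n := 31500) (stepsOK_append (m := 15000) (n := 16500) (stepsOK_append (m := 7500) (n := 7500) (stepsOK_append (m := 3000) (n := 4500) (stepsOK_append (m := 1500) (n := 1500) steps_0 steps_1) (stepsOK_append (m := 1500) (n := 3000) steps_2 (stepsOK_append (m := 1500) (n := 1500) steps_3 steps_4))) (stepsOK_append (m := 3000) (n := 4500) (stepsOK_append (m := 1500) (n := 1500) steps_5 steps_6) (stepsOK_append (m := 1500) (n := 3000) steps_7 (stepsOK_append (m := 1500) (n := 1500) steps_8 steps_9)))) (stepsOK_append (m := 7500) (n := 9000) (stepsOK_append (m := 3000) (n := 4500) (stepsOK_append (m := 1500) (n := 1500) steps_10 steps_11) (stepsOK_append (m := 1500) (n := 3000) steps_12 (stepsOK_append (m := 1500) (n := 1500) steps_13 steps_14))) (stepsOK_append (m := 4500) (n := 4500) (stepsOK_append (m := 1500) (n := 3000) steps_15 (stepsOK_append (m := 1500) (n := 1500) steps_16 steps_17)) (stepsOK_append (m := 1500) (n := 3000)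 steps_18 (stepsOK_append (m := 1500) (n := 1500) steps_19 steps_20))))) (stepsOK_append (m := 15000) (n := 16500) (stepsOK_append (m := 7500) (n := 7500) (stepsOK_append (m := 3000) (n := 4500) (stepsOK_append (m := 1500) (n := 1500) steps_21 steps_22) (stepsOK_append (m := 1500) (n := 3000) steps_23 (stepsOK_append (m := 1500) (n := 1500) steps_24 steps_25))) (stepsOK_append (m := 3000) (n := 4500) (stepsOK_append (m := 1500) (n := 1500) steps_26 steps_27) (stepsOK_append (m := 1500) (n := 3000) steps_28 (stepsOK_append (m := 1500) (n := 1500) steps_29 steps_30)))) (stepsOK_append (m := 7500) (n := 9000) (stepsOK_append (m := 3000) (n := 4500) (stepsOK_append (m := 1500) (n := 1500) steps_31 steps_32) (stepsOK_append (m := 1500) (n := 3000) steps_33 (stepsOK_append (m := 1500) (n := 1500) steps_34 steps_35))) (stepsOK_append (m := 4500) (n := 4500) (stepsOK_append (m := 1500) (n := 3000) steps_36 (stepsOK_append (m := 1500) (n := 1500) steps_37 steps_38)) (stepsOK_append (m := 1500) (n := 3000) steps_39 (stepsOK_append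 (m := 1500) (n := 1500) steps_40 steps_41)))))) (stepsOK_append (m := 31500) (n := 31909) (stepsOK_append (m := 15000) (n := 16500) (stepsOK_append (m := 7500) (n := 7500) (stepsOK_append (m := 3000) (n := 4500) (stepsOK_append (m := 1500) (n := 1500) steps_42 steps_43) (stepsOK_append (m := 1500) (n := 3000) steps_44 (stepsOK_append (m := 1500) (n := 1500) steps_45 steps_46))) (stepsOK_append (m := 3000) (n := 4500) (stepsOK_append (m := 1500) (n := 1500) steps_47 steps_48) (stepsOK_append (m := 1500) (n := 3000) steps_49 (stepsOK_append (m := 1500) (n := 1500) steps_50 steps_51)))) (stepsOK_append (m := 7500) (n := 9000) (stepsOK_append (m := 3000) (n := 4500) (stepsOK_append (m := 1500) (n := 1500) steps_52 steps_53) (stepsOK_append (m := 1500) (n := 3000) steps_54 (stepsOK_append (m := 1500) (n := 1500) steps_55 steps_56))) (stepsOK_append (m := 4500) (n := 4500) (stepsOK_append (m := 1500) (n := 3000) steps_57 (stepsOK_append (m := 1500) (n := 1500) steps_58 steps_59)) (stepsOK_append (m := 1500) (n :=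 3000) steps_60 (stepsOK_append (m := 1500) (n := 1500) steps_61 steps_62))))) (stepsOK_append (m := 16500) (n := 15409) (stepsOK_append (m := 7500) (n := 9000) (stepsOK_append (m := 3000) (n := 4500) (stepsOK_append (m := 1500) (n := 1500) steps_63 steps_64) (stepsOK_append (m := 1500) (n := 3000) steps_65 (stepsOK_append (m := 1500) (n := 1500) steps_66 steps_67))) (stepsOK_append (m := 4500) (n := 4500) (stepsOK_append (m := 1500) (n := 3000) steps_68 (stepsOK_append (m := 1500) (n := 1500) steps_69 steps_70)) (stepsOK_append (m := 1500) (n := 3000) steps_71 (stepsOK_append (m := 1500) (n := 1500) steps_72 steps_73)))) (stepsOK_append (m := 7500) (n := 7909) (stepsOK_append (m := 3000) (n := 4500) (stepsOK_append (m := 1500) (n := 1500) steps_74 steps_75) (stepsOK_append (m := 1500) (n := 3000) steps_76 (stepsOK_append (m := 1500) (n := 1500) steps_77 steps_78))) (stepsOK_append (m := 4500) (n := 3409) (stepsOK_append (m := 1500) (n := 3000) steps_79 (stepsOK_append (m := 1500) (n := 1500) steps_80 steps_81))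 (stepsOK_append (m := 1500) (n := 1909) steps_82 (stepsOK_append (m := 1500) (n := 409) steps_83 steps_84)))))))
  closed := (closedOK_append (a := 24000) (b := 25980) (closedOK_append (a := 12000) (b := 12000) (closedOK_append (a := 4000) (b := 8000) closed_0 (closedOK_append (a := 4000) (b := 4000) closed_1 closed_2)) (closedOK_append (a := 4000) (b := 8000) closed_3 (closedOK_append (a := 4000) (b := 4000) closed_4 closed_5))) (closedOK_append (a := 12000) (b := 13980) (closedOK_append (a := 4000) (b := 8000) closed_6 (closedOK_append (a := 4000) (b := 4000) closed_7 closed_8)) (closedOK_append (a := 8000) (b := 5980) (closedOK_append (a := 4000) (b := 4000) closed_9 closed_10) (closedOK_append (a := 4000) (b := 1980) closed_11 closed_12))))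

end Cfsg.Lib.CosetEnum.HeK
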