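import Cfsg.Agent.Lib.CosetEnum.HeK.TabF_Data0
import Cfsg.Agent.Lib.CosetEnum.HeK.TabF_Data1
import Cfsg.Agent.Lib.CosetEnum.HeK.TabC_Data0
import Cfsg.Agent.Lib.CosetEnum.HeK.TabC_Data1
import Cfsg.Agent.Lib.CosetEnum.HeK.TabC_Data2
import Cfsg.Agent.Lib.CosetEnum.HeK.TabC_Data3
import Cfsg.Agent.Lib.CosetEnum.HeK.TabC_Data4
import Cfsg.Agent.Lib.CosetEnum.HeK.TabC_Data5
import Cfsg.Agent.Lib.CosetEnum.HeK.TabC_Data6
import Cfsg.Agent.Lib.CosetEnum.HeK.TabC_Data7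
import Cfsg.Agent.Lib.CosetEnum.HeK.TabC_Data8
import Cfsg.Agent.Lib.CosetEnum.HeK.TabC_Data9
import Cfsg.Agent.Lib.CosetEnum.HeK.TabC_Data10
import Cfsg.Agent.Lib.CosetEnum.HeK.TabC_Data11
import Cfsg.Agent.Lib.CosetEnum.HeK.TabC_Data12
import Cfsg.Agent.Lib.CosetEnum.HeK.TabC_Data13
import Cfsg.Agent.Lib.CosetEnum.HeK.TabC_Data14
import Cfsg.Agent.Lib.CosetEnum.HeK.TabC_Data15
import Cfsg.Agent.Lib.CosetEnum.HeK.TabC_Data16
import Cfsg.Agent.Lib.CosetEnum.HeK.TabC_Data17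
import Cfsg.Agent.Lib.CosetEnum.HeK.TabC_Data18
import Cfsg.Agent.Lib.CosetEnum.HeK.TabC_Data19
import Cfsg.Agent.Lib.CosetEnum.HeK.TabC_Data20
import Cfsg.Agent.Lib.CosetEnum.HeK.TabC_Data21
import Cfsg.Agent.Lib.CosetEnum.HeK.TabC_Data22
import Cfsg.Agent.Lib.CosetEnum.HeK.TabC_Data23
import Cfsg.Agent.Lib.CosetEnum.HeK.TabC_Data24
import Cfsg.Agent.Lib.CosetEnum.HeK.TabC_Data25
import Cfsg.Agent.Lib.CosetEnum.HeK.TabC_Data26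
import Cfsg.Agent.Lib.CosetEnum.HeK.TabC_Data27
import Cfsg.Agent.Lib.CosetEnum.HeK.TabC_Data28
import Cfsg.Agent.Lib.CosetEnum.HeK.TabC_Data29
import Cfsg.Agent.Lib.CosetEnum.HeK.TabC_Data30
import Cfsg.Agent.Lib.CosetEnum.HeK.TabC_Data31
import Cfsg.Agent.Lib.CosetEnum.HeK.TabC_Data32
import Cfsg.Agent.Lib.CosetEnum.HeK.TabC_Data33
import Cfsg.Agent.Lib.CosetEnum.HeK.TabC_Data34
import Cfsg.Agent.Lib.CosetEnum.HeK.TabC_Data35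
import Cfsg.Agent.Lib.CosetEnum.HeK.TabC_Data36
import Cfsg.Agent.Lib.CosetEnum.HeK.TabC_Data37
import Cfsg.Agent.Lib.CosetEnum.HeK.TabC_Data38
import Cfsg.Agent.Lib.CosetEnum.HeK.TabC_Data39
import Cfsg.Agent.Lib.CosetEnum.HeK.TabC_Data40
import Cfsg.Agent.Lib.CosetEnum.HeK.TabC_Data41
import Cfsg.Agent.Lib.CosetEnum.HeK.TabC_Data42
import Cfsg.Agent.Lib.CosetEnum.HeK.TabC_Data43
import Cfsg.Agent.Lib.CosetEnum.HeK.TabC_Data44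
import Cfsg.Agent.Lib.CosetEnum.HeK.TabC_Data45
import Cfsg.Agent.Lib.CosetEnum.HeK.TabC_Data46
import Cfsg.Agent.Lib.CosetEnum.HeK.TabC_Data47
import Cfsg.Agent.Lib.CosetEnum.HeK.TabC_Data48
import Cfsg.Agent.Lib.CosetEnum.HeK.TabC_Data49
import Cfsg.Agent.Lib.CosetEnum.HeK.TabC_Data50
import Cfsg.Agent.Lib.CosetEnum.HeK.TabC_Data51
import Cfsg.Agent.Lib.CosetEnum.HeK.TabC_Data52
import Cfsg.Agent.Lib.CosetEnum.HeK.TabC_Data53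
import Cfsg.Agent.Lib.CosetEnum.HeK.TabC_Data54
import Cfsg.Agent.Lib.CosetEnum.HeK.TabC_Data55
import Cfsg.Agent.Lib.CosetEnum.HeK.TabC_Data56
import Cfsg.Agent.Lib.CosetEnum.HeK.TabC_Data57
import Cfsg.Agent.Lib.CosetEnum.HeK.TabC_Data58
import Cfsg.Agent.Lib.CosetEnum.HeK.TabC_Data59
import Cfsg.Agent.Lib.CosetEnum.HeK.TabC_Data60
import Cfsg.Agent.Lib.CosetEnum.HeK.TabC_Data61
import Cfsg.Agent.Lib.CosetEnum.HeK.TabZ_Data0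
import Cfsg.Agent.Lib.CosetEnum.HeK.TabZ_Data1
import Cfsg.Agent.Lib.CosetEnum.HeK.TabZ_Data2
import Cfsg.Agent.Lib.CosetEnum.HeK.TabP_Data0
import Cfsg.Agent.Lib.CosetEnum.HeK.TabP_Data1
import Cfsg.Agent.Lib.CosetEnum.HeK.TabP_Data2

/-! Generated certificate. -/

set_option autoImplicit false
set_option maxRecDepth 20000

namespace Cfsg.Lib.CosetEnum.HeK

/-- Table. -/
def tabF : Tab :=
  (.node 2048 tabF_0 tabF_1)

/-- Table. -/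
def tabC : Tab :=
  (.node 63488 (.node 30720 (.node 14336 (.node 6144 (.node 2048 tabC_0 (.node 2048 tabC_1 tabC_2)) (.node 4096 (.node 2048 tabC_3 tabC_4) (.node 2048 tabC_5 tabC_6))) (.node 8192 (.node 4096 (.node 2048 tabC_7 tabC_8) (.node 2048 tabC_9 tabC_10)) (.node 4096 (.node 2048 tabC_11 tabC_12) (.node 2048 tabC_13 tabC_14)))) (.node 16384 (.node 8192 (.node 4096 (.node 2048 tabC_15 tabC_16) (.node 2048 tabC_17 tabC_18)) (.node 4096 (.node 2048 tabC_19 tabC_20) (.node 2048 tabC_21 tabC_22))) (.node 8192 (.node 4096 (.node 2048 tabC_23 tabC_24) (.node 2048 tabC_25 tabC_26)) (.node 4096 (.node 2048 tabC_27 tabC_28) (.node 2048 tabC_29 tabC_30))))) (.node 30720 (.node 14336 (.node 6144 (.node 2048 tabC_31 (.node 2048 tabC_32 tabC_33)) (.node 4096 (.node 2048 tabC_34 tabC_35) (.node 2048 tabC_36 tabC_37))) (.node 8192 (.node 4096 (.node 2048 tabC_38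 tabC_39) (.node 2048 tabC_40 tabC_41)) (.node 4096 (.node 2048 tabC_42 tabC_43) (.node 2048 tabC_44 tabC_45)))) (.node 16384 (.node 8192 (.node 4096 (.node 2048 tabC_46 tabC_47) (.node 2048 tabC_48 tabC_49)) (.node 4096 (.node 2048 tabC_50 tabC_51) (.node 2048 tabC_52 tabC_53))) (.node 8192 (.node 4096 (.node 2048 tabC_54 tabC_55) (.node 2048 tabC_56 tabC_57)) (.node 4096 (.node 2048 tabC_58 tabC_59) (.node 2048 tabC_60 tabC_61))))))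

/-- Table. -/
def tabZ : Tab :=
  (.node 2048 tabZ_0 (.node 2048 tabZ_1 tabZ_2))

/-- Table. -/
def tabP : Tab :=
  (.node 2048 tabP_0 (.node 2048 tabP_1 tabP_2))

/-- The shifts in use. -/
def relWords : List (List Nat) :=
  [[0, 0],
    [1, 1],
    [2, 2],
    [3, 3],
    [4, 4],
    [5, 5],
    [6, 6],
    [0, 1, 0, 1, 0, 1, 0, 1],
    [0, 2, 0, 2],
    [0, 3, 0, 3],
    [0, 4, 0, 4],
    [0, 5, 0, 5],
    [0, 6, 0, 6],
    [1, 2, 1, 2, 1, 2],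
    [1, 3, 1, 3],
    [1, 4, 1, 4],
    [1, 5, 1, 5],
    [1, 6, 1, 6],
    [2, 3, 2, 3, 2, 3, 2, 3, 2, 3, 2, 3, 2, 3, 2, 3, 2, 3, 2, 3],
    [2, 4, 2, 4],
    [2, 5, 2, 5],
    [2, 6, 2, 6],
    [3, 4, 3, 4, 3, 4],
    [3, 5, 3, 5, 3, 5],
    [3, 6, 3, 6, 3, 6],
    [4, 5, 4, 5],
    [4, 6, 4, 6],
    [5, 6, 5, 6, 5, 6, 5, 6],
    [4, 6, 5, 6, 5],
    [4, 2, 1, 0, 2, 1, 0, 2, 1, 0],
    [0, 3, 2, 3, 2, 3, 2, 3, 2, 3, 2],
    [2, 3, 5, 6, 2, 3, 5, 6, 2, 3, 5, 6, 2, 3, 5, 6]]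

/-- Subgroup words. -/
def subWords : List (List Nat) :=
  [[0],
    [2],
    [3],
    [4],
    [5],
    [6]]

/-- The certificate. -/
def step : StepCert :=
  ⟨relWords, subWords, [0, 1, 2, 3, 4, 5, 6], tabF, tabC, tabZ, tabP, 49979, 126409, 49980, 7⟩

end Cfsg.Lib.CosetEnum.HeK
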